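import Groth.Agent.L05.InterPair.Twist
import Groth.Agent.L05.InterPair.Form
import Mathlib.RingTheory.UniqueFactorizationDomain.Basic

/-!
The reduced closed fibre of a regular model is the sum of its components.
-/

set_option autoImplicit false
set_option backward.isDefEq.respectTransparency false
set_option linter.style.haveILetI false
set_option linter.unusedSectionVars false
universe u

open CategoryTheory CategoryTheory.Limits AlgebraicGeometry TopologicalSpace

noncomputable section

namespace Groth.L05.RedFibre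

open Groth.L05.InterPair Groth.L05.FibreDecomp Groth.L22

variable {R : Type u} [CommRing R] [IsDomain R] [IsDiscreteValuationRing R]
  {X : Over (Spec (CommRingCat.of R))} [IsLocallyNoetherian X.left] [Flat X.hom]
  (hreg : Models.IsRegularScheme X.left) {n : ℕ} {Γs : Fin n → ArSurf.VertComp R X}
  (hΓ : Models.IsComponentList R X Γs)

include hreg hΓ

theorem coe_support_div_one :
    ((InterPair.div Γs fun _ => 1).support : Set X.left) = Models.specialFibreSet R X := by
  ext y
  obtain ⟨_, ⟨W, hW, rfl⟩, hyW, -⟩ :=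
    X.left.isBasis_affineOpens.exists_subset_of_mem_open (Set.mem_univ y) isOpen_univ
  let U : X.left.affineOpens := ⟨W, hW⟩
  rw [CartierDecomp.mem_support_iff (U := U) hyW, InterPair.div, ideal_prod]
  rw [Ideal.IsPrime.prod_le (inferInstance)]
  constructor
  · rintro ⟨i, -, hi⟩
    rw [pow_one, ← CartierDecomp.mem_support_iff (U := U) hyW, support_ker] at hi
    have hc : Set.range ((Γs i).ι.base : (Γs i).curve.left → X.left) ∈ Models.fibreComponents R X :=
      hΓ.2 ▸ ⟨i, rfl⟩
    exact hc.1.2 hi
  · intro hy
    obtain ⟨i, hi⟩ := exists_component hΓ hy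
    refine ⟨i, Finset.mem_univ i, ?_⟩
    rw [pow_one, ← CartierDecomp.mem_support_iff (U := U) hyW, support_ker]
    exact hi

/-- The reduced closed fibre is the sum of the components. -/
theorem redFibreIdeal_eq : Models.redFibreIdeal R X = InterPair.div Γs fun _ => 1 := by
  classical
  set D := InterPair.div Γs fun _ => 1
  have h0 : Models.redFibreIdeal R X = D.radical := by
    rw [← Scheme.IdealSheafData.vanishingIdeal_support, Models.redFibreIdeal]
    congr 1
    exact SetLike.ext' (coe_support_div_one hreg hΓ).symm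
  rw [h0]
  refine ext_of_stalkIdeal _ fun U y hy => le_antisymm ?_ (Ideal.map_mono (D.le_radical U))
  let φ := (X.left.presheaf.germ U.1 y hy).hom
  haveI := hreg y
  haveI := Groth.L01.isDomain_of_regular (X.left.presheaf.stalk y)
  haveI := Groth.L10.RegUFD.isUFD (X.left.presheaf.stalk y)
  haveI := fun i => isIntegral_subscheme_ker (Γs i)
  show Ideal.map φ (D.radical.ideal U) ≤ Ideal.map φ (D.ideal U)
  rw [Scheme.IdealSheafData.radical_ideal]
  refine (Ideal.map_radical_le φ).trans ?_
  let s : Finset (Fin n) := Finset.univ.filter fun i => y ∈ ((Γs i).ι.ker.support : Set X.left)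
  have hgen : ∀ i ∈ s, ∃ q, Prime q ∧ Div.stalkIdeal (Γs i).ι.ker U y hy = Ideal.span {q} := fun i hi =>
    exists_prime_generator _ U y hy (isGenericPoint_genPtOf (Γs i)) (dim_genPtOf hreg hΓ i)
      (Finset.mem_filter.1 hi).2
  choose! q hq hqspan using hgen
  have hD : Ideal.map φ (D.ideal U) = Ideal.span {∏ i ∈ s, q i} := by
    simp only [D, InterPair.div, pow_one]
    rw [ideal_prod]
    refine (map_prod (Ideal.mapHom φ) _ _).trans ?_
    rw [← Finset.prod_subset (Finset.subset_univ s) fun i _ hi => ?_, ← Ideal.prod_span_singleton]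
    · exact Finset.prod_congr rfl fun i hi => hqspan i hi
    · exact (stalkIdeal_eq_top _ U y hy fun h => hi (Finset.mem_filter.2 ⟨Finset.mem_univ i, h⟩)).trans
        Ideal.one_eq_top.symm
  rw [hD]
  intro r hr
  obtain ⟨m, hm⟩ := hr
  rw [Ideal.mem_span_singleton] at hm ⊢
  have hinj : ∀ i ∈ s, ∀ j ∈ s, Associated (q i) (q j) → i = j := by
    intro i hi j hj ha
    have hs : Models.genPtOf R X (Γs i) ⤳ y :=
      (isGenericPoint_genPtOf (Γs i)).specializes (Finset.mem_filter.1 hi).2
    have hξU := hs.mem_open U.1.2 hy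
    by_contra hne
    have h1 := map_stalkSpecializes (Γs i).ι.ker U y hy hs
    rw [hqspan i hi, Ideal.span_singleton_eq_span_singleton.2 ha, ← hqspan j hj,
      map_stalkSpecializes (Γs j).ι.ker U y hy hs, stalkIdeal_generic _ U _ hξU (isGenericPoint_genPtOf (Γs i)),
      stalkIdeal_eq_top _ U _ hξU fun h => hne (eq_of_genPtOf_mem hΓ h)] at h1
    exact (IsLocalRing.maximalIdeal.isMaximal _).ne_top h1.symm
  have hdvd : ∀ i ∈ s, q i ∣ r := fun i hi =>
    (hq i hi).dvd_of_dvd_pow ((Finset.dvd_prod_of_mem q hi).trans hm)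
  refine Finset.prod_dvd_of_isRelPrime (fun i hi j hj hne => ?_) hdvd
  show IsRelPrime (q i) (q j)
  rw [(hq i hi).irreducible.isRelPrime_iff_not_dvd]
  exact fun h => hne (hinj i hi j hj ((hq i hi).associated_of_dvd (hq j hj) h))

end Groth.L05.RedFibre
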